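import Cfsg.Agent.LThreeMB.Simp

/-!
# Simplicity from a large extraspecial 2-subgroup (helper244)

`isSimple`: `P` a large extraspecial subgroup of `C(t)`, `t` fused in `P` to another involution; if every normal
subgroup of `X` containing `t` contains `C(t)`, then `X` is simple.
-/

set_option autoImplicit false

namespace Cfsg.Agent.H244.LargeSimple

open Cfsg.Agent.Co2Type.Quad Cfsg.Agent.LargeExtra.Base
open Subgroup (centralizer mem_centralizer_singleton_iff)

variable {X : Type*} [Group X] {P : Subgroup X} {t : X}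

theorem isSimple [Finite X] (L : Large P t)
    (hC : ∀ Y : Subgroup X, Y.Normal → t ∈ Y → ∀ g : X, g * t = t * g → g ∈ Y)
    (hfus : ∃ g, g * t * g⁻¹ ∈ P ∧ g * t * g⁻¹ ≠ t) : IsSimpleGroup X := by
  have hnt : Nontrivial X := ⟨⟨t, 1, L.z_ne⟩⟩
  have : Fact (Nat.Prime 2) := ⟨Nat.prime_two⟩
  refine ⟨fun Y hY => ?_⟩
  by_cases hne : Y = ⊥
  · exact Or.inl hne
  right
  have htY := LThreeMB.Simp.t_mem L hfus hY hne
  have hCY := hC Y hY htY
  have hPY : P ≤ Y := fun p hp => hCY p (L.comm_z p hp)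
  -- a Sylow 2-subgroup of `Y` containing `P`
  have hP2 : IsPGroup 2 ↥(P.subgroupOf Y) :=
    (isPGroup L).of_injective (Subgroup.subgroupOfEquivOfLe hPY).toMonoidHom (Subgroup.subgroupOfEquivOfLe hPY).injective
  obtain ⟨S, hS⟩ := hP2.exists_le_sylow
  let S' : Subgroup X := (S : Subgroup ↥Y).map Y.subtype
  have hPS : P ≤ S' := by
    intro p hp
    exact ⟨⟨p, hPY hp⟩, hS (Subgroup.mem_subgroupOf.2 hp), rfl⟩
  have hS'2 : IsPGroup 2 ↥S' := S.isPGroup'.map _
  -- the centre of `S'` is `⟨t⟩`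
  have hcen : ∀ s ∈ S', (∀ y ∈ S', s * y = y * s) → s = 1 ∨ s = t := by
    intro s hs hsc
    have h1 : s ∈ P := L.self s (hsc t (hPS L.z_mem)) fun p hp => hsc p (hPS hp)
    exact L.cent s h1 fun y hy => hsc y (hPS hy)
  have hSt : ∀ s ∈ S', s * t = t * s := by
    have hnt' : Nontrivial ↥S' := ⟨⟨⟨t, hPS L.z_mem⟩, 1, fun h => L.z_ne (congrArg Subtype.val h)⟩⟩
    have h1 := hS'2.center_nontrivial
    obtain ⟨⟨c, hc⟩, hc1⟩ := exists_ne (1 : ↥(Subgroup.center ↥S'))
    have h2 : ∀ y ∈ S', (c : X) * y = y * c := fun y hy =>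
      (congrArg Subtype.val (Subgroup.mem_center_iff.1 hc ⟨y, hy⟩)).symm
    rcases hcen c c.2 h2 with h3 | h3
    · exfalso
      apply hc1
      exact Subtype.ext (Subtype.ext h3)
    · intro s hs
      rw [← h3]
      exact (h2 s hs).symm
  -- the normalizer of `S'` lies in `C(t)`
  have hnor : ∀ g ∈ Subgroup.normalizer (S' : Set X), g * t = t * g := by
    intro g hg
    have h1 : g * t * g⁻¹ ∈ S' := (Subgroup.mem_normalizer_iff.1 hg t).1 (hPS L.z_mem)
    have h2 : ∀ y ∈ S', g * t * g⁻¹ * y = y * (g * t * g⁻¹) := by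
      intro y hy
      have h3 : g⁻¹ * y * g ∈ S' := by
        have h4 := (Subgroup.mem_normalizer_iff.1 hg (g⁻¹ * y * g)).2 (by
          have e : g * (g⁻¹ * y * g) * g⁻¹ = y := by group
          rwa [e])
        exact h4
      have h4 := hSt _ h3
      calc g * t * g⁻¹ * y = g * (t * (g⁻¹ * y * g)) * g⁻¹ := by group
        _ = g * ((g⁻¹ * y * g) * t) * g⁻¹ := by rw [h4]
        _ = y * (g * t * g⁻¹) := by group
    rcases hcen _ h1 h2 with h3 | h3
    · exfalso
      apply L.z_ne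
      calc t = g⁻¹ * (g * t * g⁻¹) * g := by group
        _ = 1 := by rw [h3]; group
    · exact mul_inv_eq_iff_eq_mul.1 h3
  have hfrat : Subgroup.normalizer (S' : Set X) ⊔ Y = ⊤ := Sylow.normalizer_sup_eq_top S
  rw [eq_top_iff, ← hfrat]
  exact sup_le (fun g hg => hCY g (hnor g hg)) le_rfl

end Cfsg.Agent.H244.LargeSimple
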